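import Mathlib

/-!
# McCoy's theorem for square matrices (helper6)

If multiplication by a square matrix over a commutative ring is injective, then its determinant is
a non-zero-divisor.
-/

set_option autoImplicit false
set_option linter.unusedSectionVars false
set_option linter.unusedVariables false
set_option linter.unusedSimpArgs false
set_option linter.style.haveILetI false
set_option maxHeartbeats 400000

namespace Groth.Agent.Lib.Helper6.CA

open Matrix

variable {n : Type*} [Fintype n] [DecidableEq n] {Q : Type*} [CommRing Q]

/-- `x` is killed by all `r`-minors (with possibly repeated rows and columns) of `T`. -/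
def Kills (T : Matrix n n Q) (r : ℕ) (x : Q) : Prop :=
  ∀ f g : Fin r → n, (T.submatrix f g).det * x = 0

lemma kills_step (T : Matrix n n Q) (h : Function.Injective T.mulVec) {r : ℕ}
    (hr : r < Fintype.card n) {x : Q} (hx : Kills T (r + 1) x) : Kills T r x := by
  intro f g
  by_cases hg : Function.Injective g
  · -- find a column outside the range of `g`
    have hex : ∃ j₀ : n, j₀ ∉ Set.range g := by
      by_contra hcon
      push Not at hcon
      have hsurj : Function.Surjective g := fun j => hcon j
      have := Fintype.card_le_of_surjective g hsurj
      rw [Fintype.card_fin] at this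
      omega
    obtain ⟨j₀, hj₀⟩ := hex
    let g' : Fin (r + 1) → n := Fin.cons j₀ g
    let coef : Fin (r + 1) → Q := fun c =>
      (-1) ^ (c : ℕ) * (T.submatrix f (g' ∘ c.succAbove)).det
    let v : n → Q := fun j => ∑ c : Fin (r + 1), if g' c = j then coef c * x else 0
    have hTv : T.mulVec v = 0 := by
      funext i
      have h1 : (T.mulVec v) i = ∑ c : Fin (r + 1), T i (g' c) * (coef c * x) := by
        simp only [Matrix.mulVec, dotProduct, v]
        simp_rw [Finset.mul_sum]
        rw [Finset.sum_comm]
        refine Finset.sum_congr rfl fun c _ => ?_
        simp only [mul_ite, mul_zero]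
        rw [Finset.sum_ite_eq]
        simp
      have h2 : (T.submatrix (Fin.cons i f : Fin (r + 1) → n) g').det =
          ∑ c : Fin (r + 1), (-1) ^ (c : ℕ) * T i (g' c) *
            (T.submatrix f (g' ∘ c.succAbove)).det := by
        rw [Matrix.det_succ_row_zero]
        refine Finset.sum_congr rfl fun c _ => ?_
        congr 1
      have h3 := hx (Fin.cons i f) g'
      rw [h2, Finset.sum_mul] at h3
      rw [h1, Pi.zero_apply, ← h3]
      refine Finset.sum_congr rfl fun c _ => ?_
      simp only [coef]
      ring
    have hv0 : v = 0 := h (by rw [hTv, Matrix.mulVec_zero])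
    have hvj : v j₀ = (T.submatrix f g).det * x := by
      simp only [v]
      rw [Finset.sum_eq_single (0 : Fin (r + 1))]
      · have hg0 : g' 0 = j₀ := rfl
        rw [if_pos hg0]
        simp only [coef]
        have : (g' ∘ (0 : Fin (r + 1)).succAbove) = g := by
          funext c
          simp [g', Fin.succAbove_zero]
        rw [this]
        simp
      · intro c _ hc
        obtain ⟨c', rfl⟩ := Fin.exists_succ_eq.mpr hc
        have : g' c'.succ = g c' := by simp [g']
        rw [if_neg]
        rw [this]
        intro hcon
        exact hj₀ ⟨c', hcon⟩
      · intro h0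
        exact absurd (Finset.mem_univ _) h0
    rw [← hvj, hv0, Pi.zero_apply]
  · -- repeated column
    rw [Function.Injective] at hg
    push Not at hg
    obtain ⟨a, b, hab, hne⟩ := hg
    rw [Matrix.det_zero_of_column_eq hne, zero_mul]
    intro k
    simp [Matrix.submatrix_apply, hab]

lemma kills_zero_of_kills (T : Matrix n n Q) (h : Function.Injective T.mulVec) {x : Q} :
    ∀ r : ℕ, r ≤ Fintype.card n → Kills T r x → Kills T 0 x
  | 0, _, hx => hx
  | (r + 1), hr, hx => kills_zero_of_kills T h r (by omega) (kills_step T h (by omega) hx)

lemma kills_card (T : Matrix n n Q) {x : Q} (hx : T.det * x = 0) :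
    Kills T (Fintype.card n) x := by
  intro f g
  by_cases hf : Function.Injective f
  · by_cases hg : Function.Injective g
    · have hfb : Function.Bijective f :=
        (Fintype.bijective_iff_injective_and_card f).mpr ⟨hf, by simp⟩
      have hgb : Function.Bijective g :=
        (Fintype.bijective_iff_injective_and_card g).mpr ⟨hg, by simp⟩
      let ef : Fin (Fintype.card n) ≃ n := Equiv.ofBijective f hfb
      let eg : Fin (Fintype.card n) ≃ n := Equiv.ofBijective g hgb
      have h1 : T.submatrix f g = (T.submatrix id (ef.symm.trans eg)).submatrix ef ef := by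
        ext a b
        simp [Matrix.submatrix_apply, ef, eg]
      rw [h1, Matrix.det_submatrix_equiv_self, Matrix.det_permute', mul_assoc, hx, mul_zero]
    · rw [Function.Injective] at hg
      push Not at hg
      obtain ⟨a, b, hab, hne⟩ := hg
      rw [Matrix.det_zero_of_column_eq hne, zero_mul]
      intro k
      simp [Matrix.submatrix_apply, hab]
  · rw [Function.Injective] at hf
    push Not at hf
    obtain ⟨a, b, hab, hne⟩ := hf
    rw [Matrix.det_zero_of_row_eq hne, zero_mul]
    funext k
    simp [Matrix.submatrix_apply, hab]

/-- **McCoy's theorem** (square case): an injective square matrix has a regular determinant. -/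
theorem det_mem_nonZeroDivisors_of_mulVec_injective (T : Matrix n n Q)
    (h : Function.Injective T.mulVec) : T.det ∈ nonZeroDivisors Q := by
  rw [mem_nonZeroDivisors_iff_right]
  intro x hx
  rw [mul_comm] at hx
  have h0 := kills_zero_of_kills T h (Fintype.card n) le_rfl (kills_card T hx)
  have := h0 Fin.elim0 Fin.elim0
  rwa [Matrix.det_isEmpty, one_mul] at this

end Groth.Agent.Lib.Helper6.CA
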