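import Mathlib
import Groth.Agent.Lib.Helper6.ZC.DetInt
import Groth.Agent.Lib.Helper6.CA.McCoy

/-!
# Norms on `L ⊗ R` over `K ⊗ R` (helper6)
-/

set_option autoImplicit false
set_option linter.unusedSectionVars false
set_option linter.unusedVariables false
set_option linter.unusedSimpArgs false
set_option linter.style.haveILetI false
set_option maxHeartbeats 400000
universe u
open scoped TensorProduct

namespace Groth.Agent.Lib.Helper6.CA

open Groth.Agent.Lib.Helper6.ZC

section PO

variable {K L Q Λ ι : Type*} [CommRing K] [CommRing L] [Algebra K L] [CommRing Q] [Algebra K Q]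
  [CommRing Λ] [Algebra K Λ] [Algebra L Λ] [Algebra Q Λ] [IsScalarTower K L Λ]
  [IsScalarTower K Q Λ] [Fintype ι] [DecidableEq ι]
  (e : Module.Basis ι K L) (h : IsBaseChange Q (IsScalarTower.toAlgHom K L Λ).toLinearMap)

lemma leftMulMatrix_po (q : Q) (l : L) :
    Algebra.leftMulMatrix (h.basis e) (q • algebraMap L Λ l) =
      q • (Algebra.leftMulMatrix e l).map (algebraMap K Q) := by
  ext i j
  rw [Algebra.leftMulMatrix_eq_repr_mul, IsBaseChange.basis_apply]
  have h1 : q • algebraMap L Λ l * (IsScalarTower.toAlgHom K L Λ).toLinearMap (e j) =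
      q • (IsScalarTower.toAlgHom K L Λ).toLinearMap (l * e j) := by
    rw [AlgHom.toLinearMap_apply, AlgHom.toLinearMap_apply, IsScalarTower.coe_toAlgHom',
      map_mul, smul_mul_assoc]
  rw [h1, map_smul, Finsupp.smul_apply, IsBaseChange.basis_repr_comp_apply, Matrix.smul_apply,
    Matrix.map_apply, Algebra.leftMulMatrix_eq_repr_mul, smul_eq_mul]

lemma leftMulMatrix_po_sum {σ : Type*} [Fintype σ] (q : σ → Q) (l : σ → L) :
    Algebra.leftMulMatrix (h.basis e) (∑ j, q j • algebraMap L Λ (l j)) =
      ∑ j, q j • (Algebra.leftMulMatrix e (l j)).map (algebraMap K Q) := by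
  rw [map_sum]
  exact Finset.sum_congr rfl fun j _ => leftMulMatrix_po e h (q j) (l j)

include e h in
theorem norm_po_natural {Q' Λ' : Type*} [CommRing Q'] [Algebra K Q'] [CommRing Λ'] [Algebra K Λ']
    [Algebra L Λ'] [Algebra Q' Λ'] [IsScalarTower K L Λ'] [IsScalarTower K Q' Λ']
    (h' : IsBaseChange Q' (IsScalarTower.toAlgHom K L Λ').toLinearMap) (ψ : Q →ₐ[K] Q')
    {σ : Type*} [Fintype σ] (q : σ → Q) (l : σ → L) :
    Algebra.norm Q' (∑ j, ψ (q j) • algebraMap L Λ' (l j)) =
      ψ (Algebra.norm Q (∑ j, q j • algebraMap L Λ (l j))) := by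
  rw [Algebra.norm_eq_matrix_det (h'.basis e), Algebra.norm_eq_matrix_det (h.basis e),
    leftMulMatrix_po_sum, leftMulMatrix_po_sum, AlgHom.map_det]
  congr 1
  rw [map_sum]
  refine Finset.sum_congr rfl fun j _ => ?_
  ext a b
  simp [Matrix.map_apply]

end PO

section IntNorm

open Polynomial

theorem isIntegral_norm_of_isIntegral {P Q Λ : Type*} [CommRing P] [CommRing Q] [IsDomain Q]
    [CommRing Λ] [Algebra P Q] [Algebra Q Λ] [Algebra P Λ] [IsScalarTower P Q Λ]
    [Module.Free Q Λ] [Module.Finite Q Λ] (x : Λ) (hx : IsIntegral P x) :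
    IsIntegral P (Algebra.norm Q x) := by
  let F := FractionRing Q
  let Φ : Λ →ₐ[Q] Module.End F (F ⊗[Q] Λ) :=
    (Module.End.baseChangeHom Q F Λ).comp (Algebra.lmul Q Λ)
  obtain ⟨p, hp, hp0⟩ := hx
  have hp0' : aeval x p = 0 := hp0
  have hann : aeval (Φ x) (p.map (algebraMap P F)) = 0 := by
    have h2 : p.map (algebraMap P F) = (p.map (algebraMap P Q)).map (algebraMap Q F) := by
      rw [Polynomial.map_map, ← IsScalarTower.algebraMap_eq]
    rw [h2, aeval_map_algebraMap, aeval_algHom_apply, aeval_map_algebraMap, hp0', map_zero]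
  have h3 := isIntegral_det_of_aeval_eq_zero (R := P) (L := F) (Φ x) p hp hann
  have h4 : LinearMap.det (Φ x) = algebraMap Q F (Algebra.norm Q x) := by
    rw [Algebra.norm_apply]
    exact LinearMap.det_baseChange (Algebra.lmul Q Λ x)
  rw [h4] at h3
  exact (isIntegral_algebraMap_iff (IsFractionRing.injective Q F)).mp h3

end IntNorm

section Poly

attribute [local instance] MvPolynomial.algebraMvPolynomial

variable {A K L : Type u} [CommRing A] [IsDomain A] [IsIntegrallyClosed A]
  [Field K] [Algebra A K] [IsFractionRing A K]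
  [Field L] [Algebra K L] [FiniteDimensional K L] [Algebra A L] [IsScalarTower A K L]
  {σ : Type u} [Fintype σ]

lemma towerMv : IsScalarTower (MvPolynomial σ A) (MvPolynomial σ K) (MvPolynomial σ L) :=
  IsScalarTower.of_algebraMap_eq' (by
    rw [MvPolynomial.algebraMap_def, MvPolynomial.algebraMap_def, MvPolynomial.algebraMap_def,
      IsScalarTower.algebraMap_eq A K L]
    apply RingHom.ext
    intro p
    rw [RingHom.comp_apply, MvPolynomial.map_map])

attribute [local instance] towerMv

lemma isBaseChange_mv :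
    IsBaseChange (MvPolynomial σ K)
      (IsScalarTower.toAlgHom K L (MvPolynomial σ L)).toLinearMap :=
  (inferInstance : Algebra.IsPushout K (MvPolynomial σ K) L (MvPolynomial σ L)).out

theorem exists_poly_norm (b : σ → L) (hb : ∀ j, IsIntegral A (b j)) :
    ∃ G : MvPolynomial σ A, MvPolynomial.map (algebraMap A K) G =
      Algebra.norm (MvPolynomial σ K)
        (∑ j, (MvPolynomial.X j : MvPolynomial σ K) •
          algebraMap L (MvPolynomial σ L) (b j)) := by
  classical
  have hbc := isBaseChange_mv (K := K) (L := L) (σ := σ)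
  haveI : Module.Free (MvPolynomial σ K) (MvPolynomial σ L) :=
    Module.Free.of_basis (hbc.basis (Module.finBasis K L))
  haveI : Module.Finite (MvPolynomial σ K) (MvPolynomial σ L) :=
    Module.Finite.of_basis (hbc.basis (Module.finBasis K L))
  have hβ : IsIntegral (MvPolynomial σ A) (∑ j, (MvPolynomial.X j : MvPolynomial σ K) •
      algebraMap L (MvPolynomial σ L) (b j)) := by
    refine IsIntegral.sum _ fun j _ => ?_
    have h1 : (MvPolynomial.X j : MvPolynomial σ K) • algebraMap L (MvPolynomial σ L) (b j) =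
        algebraMap (MvPolynomial σ A) (MvPolynomial σ L) (MvPolynomial.X j) *
          algebraMap L (MvPolynomial σ L) (b j) := by
      rw [Algebra.smul_def, MvPolynomial.algebraMap_def, MvPolynomial.algebraMap_def,
        MvPolynomial.map_X, MvPolynomial.map_X]
    rw [h1]
    refine IsIntegral.mul isIntegral_algebraMap ?_
    have h2 : IsIntegral A (algebraMap L (MvPolynomial σ L) (b j)) :=
      (hb j).map (IsScalarTower.toAlgHom A L (MvPolynomial σ L))
    exact h2.tower_top
  have hint := isIntegral_norm_of_isIntegral (P := MvPolynomial σ A) (Q := MvPolynomial σ K) _ hβ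
  rw [MvPolynomial.isIntegral_iff_isIntegral_coeff] at hint
  have hmem : Algebra.norm (MvPolynomial σ K)
        (∑ j, (MvPolynomial.X j : MvPolynomial σ K) •
          algebraMap L (MvPolynomial σ L) (b j)) ∈
      Set.range (MvPolynomial.map (algebraMap A K) : MvPolynomial σ A →+* MvPolynomial σ K) := by
    rw [MvPolynomial.mem_range_map_iff_coeffs_subset]
    intro c hc
    obtain ⟨m, _, rfl⟩ := MvPolynomial.mem_coeffs_iff.mp (Finset.mem_coe.mp hc)
    exact IsIntegrallyClosed.isIntegral_iff.mp (hint m)
  exact hmem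

end Poly

end Groth.Agent.Lib.Helper6.CA
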