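import Mathlib
import Groth.Agent.Lib.Helper6.CA.McCoy
import Groth.Agent.Lib.Helper6.CA.NormTensor

/-!
# Norms on `L ⊗ R` over `K ⊗ R`, II (helper6)
-/

set_option autoImplicit false
set_option linter.unusedSectionVars false
set_option linter.unusedVariables false
set_option linter.unusedSimpArgs false
set_option linter.style.haveILetI false
set_option maxHeartbeats 400000
universe u
open scoped TensorProduct

namespace Groth.Agent.Lib.Helper6.CA

section Q

variable (k K L R : Type u) [Field k] [Field K] [Algebra k K] [Field L] [Algebra K L]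
  [Algebra k L] [IsScalarTower k K L] [CommRing R] [Algebra k R]

/-- `L ⊗ R` as an algebra over `K ⊗ R`. -/
@[reducible] noncomputable def algQ : Algebra (K ⊗[k] R) (L ⊗[k] R) :=
  (Algebra.TensorProduct.map (IsScalarTower.toAlgHom k K L) (AlgHom.id k R)).toRingHom.toAlgebra

attribute [local instance] algQ

lemma algQ_algebraMap (q : K ⊗[k] R) :
    algebraMap (K ⊗[k] R) (L ⊗[k] R) q =
      Algebra.TensorProduct.map (IsScalarTower.toAlgHom k K L) (AlgHom.id k R) q := rfl

lemma towerQ : IsScalarTower K (K ⊗[k] R) (L ⊗[k] R) :=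
  IsScalarTower.of_algebraMap_eq' (by
    apply RingHom.ext
    intro κ
    rw [RingHom.comp_apply, algQ_algebraMap, Algebra.TensorProduct.algebraMap_apply,
      Algebra.TensorProduct.algebraMap_apply, Algebra.TensorProduct.map_tmul, map_one]
    rfl)

attribute [local instance] towerQ

lemma isBaseChangeQ :
    IsBaseChange (K ⊗[k] R) (IsScalarTower.toAlgHom K L (L ⊗[k] R)).toLinearMap := by
  have hp : Algebra.IsPushout K L (K ⊗[k] R) (L ⊗[k] R) :=
    Algebra.IsPushout.tensorProduct_tensorProduct k R K L (by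
      apply RingHom.ext
      intro r
      simp [algQ_algebraMap])
  exact hp.symm.out

lemma tmul_eq_smul (l : L) (r : R) :
    l ⊗ₜ[k] r = ((1 : K) ⊗ₜ[k] r : K ⊗[k] R) • algebraMap L (L ⊗[k] R) l := by
  rw [Algebra.smul_def, algQ_algebraMap, Algebra.TensorProduct.map_tmul,
    Algebra.TensorProduct.algebraMap_apply, Algebra.TensorProduct.tmul_mul_tmul]
  simp

variable [FiniteDimensional K L]

lemma freeQ : Module.Free (K ⊗[k] R) (L ⊗[k] R) :=
  Module.Free.of_basis ((isBaseChangeQ k K L R).basis (Module.finBasis K L))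

lemma finiteQ : Module.Finite (K ⊗[k] R) (L ⊗[k] R) :=
  Module.Finite.of_basis ((isBaseChangeQ k K L R).basis (Module.finBasis K L))

end Q

section Main

variable (k A K L R : Type u) [Field k]
  [CommRing A] [IsDomain A] [IsIntegrallyClosed A] [Algebra k A]
  [Field K] [Algebra A K] [IsFractionRing A K] [Algebra k K] [IsScalarTower k A K]
  [Field L] [Algebra K L] [FiniteDimensional K L] [Algebra A L] [IsScalarTower A K L]
  [Algebra k L] [IsScalarTower k K L] [IsScalarTower k A L]
  [CommRing R] [Algebra k R]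

attribute [local instance] algQ towerQ MvPolynomial.algebraMvPolynomial towerMv

/-- The map `B ⊗ R → L ⊗ R`. -/
noncomputable abbrev ιB : (integralClosure A L) ⊗[k] R →ₐ[k] L ⊗[k] R :=
  Algebra.TensorProduct.map ((integralClosure A L).val.restrictScalars k) (AlgHom.id k R)

/-- The map `A ⊗ R → K ⊗ R`. -/
noncomputable abbrev jAK : A ⊗[k] R →ₐ[k] K ⊗[k] R :=
  Algebra.TensorProduct.map (IsScalarTower.toAlgHom k A K) (AlgHom.id k R)

lemma jAK_aeval {σ : Type*} (r : σ → R) (G : MvPolynomial σ A) :
    jAK k A K R (MvPolynomial.aeval (fun p => (1 : A) ⊗ₜ[k] r p) G) =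
      MvPolynomial.aeval (fun p => (1 : K) ⊗ₜ[k] r p)
        (MvPolynomial.map (algebraMap A K) G) := by
  induction G using MvPolynomial.induction_on with
  | C a =>
    rw [MvPolynomial.map_C, MvPolynomial.aeval_C, MvPolynomial.aeval_C,
      Algebra.TensorProduct.algebraMap_apply, Algebra.TensorProduct.algebraMap_apply,
      Algebra.TensorProduct.map_tmul, map_one]
    rfl
  | add p q hp hq => simp only [map_add, hp, hq]
  | mul_X p i hp =>
    simp only [map_mul, hp, MvPolynomial.aeval_X, MvPolynomial.map_X,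
      Algebra.TensorProduct.map_tmul, map_one, AlgHom.id_apply]

theorem norm_mem_range (β : (integralClosure A L) ⊗[k] R) :
    Algebra.norm (K ⊗[k] R) (ιB k A L R β) ∈ Set.range (jAK k A K R) := by
  classical
  obtain ⟨s, hs⟩ := TensorProduct.exists_finset β
  let b : s → L := fun p => (p.1.1 : L)
  let r : s → R := fun p => p.1.2
  have hb : ∀ p, IsIntegral A (b p) := fun p => p.1.1.2
  obtain ⟨G, hG⟩ := exists_poly_norm (A := A) (K := K) (L := L) b hb
  let ψ : MvPolynomial s K →ₐ[K] K ⊗[k] R := MvPolynomial.aeval (fun p => (1 : K) ⊗ₜ[k] r p)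
  have h1 : ιB k A L R β = ∑ p : s, ψ (MvPolynomial.X p) • algebraMap L (L ⊗[k] R) (b p) := by
    rw [hs, map_sum, ← Finset.sum_coe_sort s]
    refine Finset.sum_congr rfl fun p _ => ?_
    rw [MvPolynomial.aeval_X, ← tmul_eq_smul]
    rfl
  rw [h1, norm_po_natural (Module.finBasis K L) isBaseChange_mv (isBaseChangeQ k K L R) ψ, ← hG]
  exact ⟨MvPolynomial.aeval (fun p => (1 : A) ⊗ₜ[k] r p) G, jAK_aeval k A K R r G⟩

lemma ιB_injective : Function.Injective (ιB k A L R) := by
  have hinj : Function.Injective ((integralClosure A L).val.restrictScalars k).toLinearMap :=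
    Subtype.val_injective
  have hflat := Module.Flat.rTensor_preserves_injective_linearMap (M := R) _ hinj
  have key : ∀ z, LinearMap.rTensor R ((integralClosure A L).val.restrictScalars k).toLinearMap z =
      ιB k A L R z := by
    intro z
    induction z using TensorProduct.induction_on with
    | zero => simp
    | tmul b r => rfl
    | add z z' h h' => simp only [map_add, h, h']
  intro x y hxy
  apply hflat
  rw [key, key, hxy]

/-- The constant `a ⊗ 1` in `L ⊗ R`. -/
noncomputable def cL (a : A) : L ⊗[k] R := algebraMap A L a ⊗ₜ[k] 1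

/-- The constant `a ⊗ 1` in `B ⊗ R`. -/
noncomputable def cB (a : A) : (integralClosure A L) ⊗[k] R :=
  algebraMap A (integralClosure A L) a ⊗ₜ[k] 1

lemma ιB_cB (a : A) : ιB k A L R (cB k A L R a) = cL k A L R a := rfl

lemma cL_mul (a a' : A) : cL k A L R (a * a') = cL k A L R a * cL k A L R a' := by
  simp [cL, Algebra.TensorProduct.tmul_mul_tmul]

include K in
lemma algebraMap_AL_ne_zero {a : A} (ha : a ≠ 0) : algebraMap A L a ≠ 0 := by
  rw [IsScalarTower.algebraMap_apply A K L]
  intro h0
  have h1 : algebraMap A K a = 0 := (algebraMap K L).injective (by rw [h0, map_zero])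
  exact ha ((IsFractionRing.injective A K) (by rw [h1, map_zero]))

include K in
lemma cL_cancel {a : A} (ha : a ≠ 0) (y : L ⊗[k] R) (h : cL k A L R a * y = 0) : y = 0 := by
  have hne := algebraMap_AL_ne_zero A K L ha
  have h1 : ((algebraMap A L a)⁻¹ ⊗ₜ[k] (1 : R)) * cL k A L R a = 1 := by
    rw [cL, Algebra.TensorProduct.tmul_mul_tmul, inv_mul_cancel₀ hne, mul_one]
    rfl
  calc y = (((algebraMap A L a)⁻¹ ⊗ₜ[k] (1 : R)) * cL k A L R a) * y := by rw [h1, one_mul]
    _ = 0 := by rw [mul_assoc, h, mul_zero]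

include K in
lemma exists_denominator (y : L ⊗[k] R) :
    ∃ a : A, a ≠ 0 ∧ ∃ y' : (integralClosure A L) ⊗[k] R,
      ιB k A L R y' = cL k A L R a * y := by
  haveI : Algebra.IsAlgebraic A L :=
    (IsFractionRing.comap_isAlgebraic_iff (A := A) (K := K) (C := L)).mpr inferInstance
  induction y using TensorProduct.induction_on with
  | zero => exact ⟨1, one_ne_zero, 0, by simp⟩
  | tmul l r =>
    obtain ⟨a, ha, hint⟩ := (Algebra.IsAlgebraic.isAlgebraic (R := A) l).exists_integral_multiple
    refine ⟨a, ha, (⟨a • l, hint⟩ : integralClosure A L) ⊗ₜ[k] r, ?_⟩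
    rw [cL, Algebra.TensorProduct.tmul_mul_tmul, one_mul, Algebra.TensorProduct.map_tmul,
      ← Algebra.smul_def]
    rfl
  | add y₁ y₂ h₁ h₂ =>
    obtain ⟨a₁, ha₁, y₁', e₁⟩ := h₁
    obtain ⟨a₂, ha₂, y₂', e₂⟩ := h₂
    refine ⟨a₁ * a₂, mul_ne_zero ha₁ ha₂, cB k A L R a₂ * y₁' + cB k A L R a₁ * y₂', ?_⟩
    rw [map_add, map_mul, map_mul, ιB_cB, ιB_cB, e₁, e₂, cL_mul]
    ring

theorem isRegular_iff_norm (β : (integralClosure A L) ⊗[k] R) :
    IsRegular β ↔ IsRegular (Algebra.norm (K ⊗[k] R) (ιB k A L R β)) := by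
  classical
  let eQ := (isBaseChangeQ k K L R).basis (Module.finBasis K L)
  have hnorm : Algebra.norm (K ⊗[k] R) (ιB k A L R β) =
      (Algebra.leftMulMatrix eQ (ιB k A L R β)).det := Algebra.norm_eq_matrix_det eQ _
  have hmv : Function.Injective (Algebra.leftMulMatrix eQ (ιB k A L R β)).mulVec ↔
      ∀ y, ιB k A L R β * y = 0 → y = 0 := by
    constructor
    · intro hinj y hy
      have h1 := Algebra.leftMulMatrix_mulVec_repr eQ (ιB k A L R β) y
      rw [hy, map_zero] at h1
      have h2 : (⇑(eQ.repr y) : _ → K ⊗[k] R) = 0 := hinj (by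
        rw [h1, Matrix.mulVec_zero]
        rfl)
      have h3 : eQ.repr y = 0 := by
        ext i
        exact congrFun h2 i
      exact (LinearEquiv.map_eq_zero_iff _).mp h3
    · intro hreg v₁ v₂ hv
      have h0 : (Algebra.leftMulMatrix eQ (ιB k A L R β)).mulVec (v₁ - v₂) = 0 := by
        rw [Matrix.mulVec_sub, hv, sub_self]
      have hy : (⇑(eQ.repr (eQ.equivFun.symm (v₁ - v₂))) : _ → K ⊗[k] R) = v₁ - v₂ :=
        eQ.equivFun.apply_symm_apply (v₁ - v₂)
      have h1 := Algebra.leftMulMatrix_mulVec_repr eQ (ιB k A L R β) (eQ.equivFun.symm (v₁ - v₂))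
      rw [hy, h0] at h1
      have h2 : ιB k A L R β * eQ.equivFun.symm (v₁ - v₂) = 0 := by
        apply eQ.repr.injective
        rw [map_zero]
        ext i
        exact (congrFun h1 i).symm
      have hy0 := hreg _ h2
      have h3 : v₁ - v₂ = 0 := by
        rw [← hy, hy0, map_zero]
        rfl
      exact sub_eq_zero.mp h3
  constructor
  · intro hβ
    have hreg : ∀ y, ιB k A L R β * y = 0 → y = 0 := by
      intro y hy
      obtain ⟨a, ha, y', hy'⟩ := exists_denominator k A K L R y
      have h1 : ιB k A L R (β * y') = 0 := by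
        rw [map_mul, hy', ← mul_assoc, mul_comm (ιB k A L R β), mul_assoc, hy, mul_zero]
      have h2 : β * y' = 0 := ιB_injective k A L R (by rw [h1, map_zero])
      have h3 : y' = 0 := hβ.left (by simpa using h2)
      rw [h3, map_zero] at hy'
      exact cL_cancel k A K L R ha y hy'.symm
    have hdet := det_mem_nonZeroDivisors_of_mulVec_injective _ (hmv.mpr hreg)
    rw [hnorm]
    exact isRegular_iff_mem_nonZeroDivisors.mpr hdet
  · intro hN
    rw [hnorm] at hN
    have hdet := isRegular_iff_mem_nonZeroDivisors.mp hN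
    have hreg := hmv.mp (Matrix.mulVec_injective_of_det_mem_nonZeroDivisors hdet)
    refine isLeftRegular_iff_isRegular.mp (isLeftRegular_iff_right_eq_zero_of_mul.mpr ?_)
    intro z hz
    have h1 : ιB k A L R β * ιB k A L R z = 0 := by rw [← map_mul, hz, map_zero]
    exact ιB_injective k A L R (by rw [hreg _ h1, map_zero])

end Main

end Groth.Agent.Lib.Helper6.CA
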